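import Mathlib
import Groth.Prelude.Def_W4c1hilbpnTgt

universe u

open MvPolynomial W4c1hilbpn

namespace Groth.Agent.Lib.Helper5.SStab

variable {σ : Type*} {k : Type*} [Field k]

/-- monomials outside a monomial ideal of finite colength form a finite set -/
theorem finite_compl_exps (I : Ideal (MvPolynomial σ k)) (hI : IsMonomial I)
    [Module.Finite k (MvPolynomial σ k ⧸ I)] : {β : σ →₀ ℕ | β ∉ exps I}.Finite := by
  classical
  let v : {β : σ →₀ ℕ // β ∉ exps I} → (MvPolynomial σ k ⧸ I) :=
    fun β => Ideal.Quotient.mk I (monomial β.1 (1 : k))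
  have hli : LinearIndependent k v := by
    rw [linearIndependent_iff']
    intro s g hg i hi
    by_contra hgi
    have h1 : Ideal.Quotient.mk I (∑ j ∈ s, monomial j.1 (g j)) = 0 := by
      rw [map_sum, ← hg]
      refine Finset.sum_congr rfl fun j _ => ?_
      have : monomial j.1 (g j) = g j • monomial j.1 (1 : k) := by
        rw [smul_monomial, smul_eq_mul, mul_one]
      rw [this]
      rfl
    have h2 : (∑ j ∈ s, monomial j.1 (g j)) ∈ I := Ideal.Quotient.eq_zero_iff_mem.1 h1
    have h3 : (∑ j ∈ s, monomial j.1 (g j) : MvPolynomial σ k).coeff i.1 = g i := by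
      rw [coeff_sum]
      rw [Finset.sum_eq_single i]
      · simp
      · intro j _ hji
        rw [coeff_monomial, if_neg]
        intro h
        exact hji (Subtype.ext h)
      · intro h; exact absurd hi h
    have h4 : i.1 ∈ (∑ j ∈ s, monomial j.1 (g j) : MvPolynomial σ k).support := by
      rw [mem_support_iff, h3]; exact hgi
    exact i.2 (hI _ h2 _ h4)
  have : Finite {β : σ →₀ ℕ // β ∉ exps I} := hli.finite_of_isNoetherian
  exact Set.finite_coe_iff.1 this


theorem e3_apply (a b c : ℕ) (i : Fin 3) : e3 a b c i = ![a, b, c] i := rfl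

theorem e3_injective_c (a b : ℕ) : Function.Injective (fun c => e3 a b c) := by
  intro c c' h
  have := congrArg (fun β : Fin 3 →₀ ℕ => β 2) h
  simpa [e3_apply] using this

theorem e3_injective_b (a c : ℕ) : Function.Injective (fun b => e3 a b c) := by
  intro b b' h
  have := congrArg (fun β : Fin 3 →₀ ℕ => β 1) h
  simpa [e3_apply] using this

theorem stairZ_le (I : Ideal (MvPolynomial (Fin 3) k)) (hI : IsStronglyStable I)
    [Module.Finite k (MvPolynomial (Fin 3) k ⧸ I)] (i j : ℕ) :
    stairZ I (i + 1) j ≤ stairZ I i (j + 1) := by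
  have hfin : {c : ℕ | e3 i (j + 1) c ∉ exps I}.Finite :=
    (finite_compl_exps I hI.1).preimage ((e3_injective_c i (j + 1)).injOn)
  have hsub : {c : ℕ | e3 (i + 1) j c ∉ exps I} ⊆ {c : ℕ | e3 i (j + 1) c ∉ exps I} := by
    intro c hc hmem
    apply hc
    have := hI.2 _ hmem 0 1 (by decide) (by simp [e3_apply])
    convert this using 1
    ext t
    fin_cases t <;> simp [e3_apply]
  exact Nat.card_mono hfin hsub

theorem stairY_le (I : Ideal (MvPolynomial (Fin 3) k)) (hI : IsStronglyStable I)
    [Module.Finite k (MvPolynomial (Fin 3) k ⧸ I)] (i j : ℕ) :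
    stairY I (i + 1) j ≤ stairY I i (j + 1) := by
  have hfin : {b : ℕ | e3 i b (j + 1) ∉ exps I}.Finite :=
    (finite_compl_exps I hI.1).preimage ((e3_injective_b i (j + 1)).injOn)
  have hsub : {b : ℕ | e3 (i + 1) b j ∉ exps I} ⊆ {b : ℕ | e3 i b (j + 1) ∉ exps I} := by
    intro b hb hmem
    apply hb
    have := hI.2 _ hmem 0 2 (by decide) (by simp [e3_apply])
    convert this using 1
    ext t
    fin_cases t <;> simp [e3_apply]
  exact Nat.card_mono hfin hsub


theorem mem_of_support_subset_exps (J : Ideal (MvPolynomial σ k)) (p : MvPolynomial σ k)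
    (h : ∀ β ∈ p.support, β ∈ exps J) : p ∈ J := by
  rw [p.as_sum]
  refine Ideal.sum_mem _ fun β hβ => ?_
  have : monomial β (coeff β p) = C (coeff β p) * monomial β (1 : k) := by
    rw [C_mul_monomial, mul_one]
  rw [this]
  exact Ideal.mul_mem_left _ _ (h β hβ)

/-- the exponent map `k[y,z] → k[x,y,z]`, `y^b z^c ↦ x^a y^b z^c`. -/
noncomputable def ex (a : ℕ) (β : Fin 2 →₀ ℕ) : Fin 3 →₀ ℕ := e3 a (β 0) (β 1)

theorem ex_injective (a : ℕ) : Function.Injective (ex a) := by
  intro β β' h
  ext t
  fin_cases t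
  · have := congrArg (fun γ : Fin 3 →₀ ℕ => γ 1) h
    simpa [ex, e3_apply] using this
  · have := congrArg (fun γ : Fin 3 →₀ ℕ => γ 2) h
    simpa [ex, e3_apply] using this

/-- the linear map `f ↦ x^a f`. -/
noncomputable def T (a : ℕ) (f : MvPolynomial (Fin 2) k) : MvPolynomial (Fin 3) k :=
  rename Fin.succ f * X 0 ^ a

theorem mapDomain_succ_add (a : ℕ) (β : Fin 2 →₀ ℕ) :
    Finsupp.mapDomain Fin.succ β + Finsupp.single 0 a = ex a β := by
  ext t
  fin_cases t
  · have : (Finsupp.mapDomain Fin.succ β) (0 : Fin 3) = 0 :=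
      Finsupp.mapDomain_of_notMem_range _ _ (by
        rintro ⟨x, hx⟩
        exact Fin.succ_ne_zero x hx)
    simp [ex, e3_apply, this]
  · have : (Finsupp.mapDomain Fin.succ β) (Fin.succ 0) = β 0 :=
      Finsupp.mapDomain_apply (Fin.succ_injective 2) β 0
    simpa [ex, e3_apply] using this
  · have : (Finsupp.mapDomain Fin.succ β) (Fin.succ 1) = β 1 :=
      Finsupp.mapDomain_apply (Fin.succ_injective 2) β 1
    simpa [ex, e3_apply] using this

theorem T_monomial (a : ℕ) (β : Fin 2 →₀ ℕ) (c : k) :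
    T a (monomial β c) = monomial (ex a β) c := by
  unfold T
  rw [rename_monomial, X_pow_eq_monomial, monomial_mul, mul_one, mapDomain_succ_add]

theorem T_eq_sum (a : ℕ) (f : MvPolynomial (Fin 2) k) :
    T a f = ∑ β ∈ f.support, monomial (ex a β) (coeff β f) := by
  conv_lhs => rw [f.as_sum]
  unfold T
  rw [map_sum, Finset.sum_mul]
  refine Finset.sum_congr rfl fun β _ => ?_
  exact T_monomial a β _

theorem coeff_T (a : ℕ) (f : MvPolynomial (Fin 2) k) (β : Fin 2 →₀ ℕ) :
    coeff (ex a β) (T a f) = coeff β f := by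
  classical
  rw [T_eq_sum, coeff_sum]
  by_cases hβ : β ∈ f.support
  · rw [Finset.sum_eq_single β]
    · simp
    · intro β' _ hne
      rw [coeff_monomial, if_neg]
      intro h
      exact hne (ex_injective a h)
    · intro h; exact absurd hβ h
  · rw [notMem_support_iff.1 hβ]
    refine Finset.sum_eq_zero fun β' hβ' => ?_
    rw [coeff_monomial, if_neg]
    intro h
    apply hβ
    rw [← ex_injective a h]
    exact hβ'

theorem mem_sliceX_iff_T (I : Ideal (MvPolynomial (Fin 3) k)) (a : ℕ)
    (f : MvPolynomial (Fin 2) k) : f ∈ sliceX I a ↔ T a f ∈ I := by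
  unfold sliceX T
  rw [Ideal.mem_comap, Submodule.mem_colon_singleton]
  rfl

theorem mem_sliceX_iff (I : Ideal (MvPolynomial (Fin 3) k)) (hI : IsMonomial I) (a : ℕ)
    (f : MvPolynomial (Fin 2) k) :
    f ∈ sliceX I a ↔ ∀ β ∈ f.support, ex a β ∈ exps I := by
  rw [mem_sliceX_iff_T]
  constructor
  · intro h β hβ
    apply hI _ h
    rw [mem_support_iff, coeff_T]
    exact mem_support_iff.1 hβ
  · intro h
    rw [T_eq_sum]
    refine Ideal.sum_mem _ fun β hβ => ?_
    have : monomial (ex a β) (coeff β f) = C (coeff β f) * monomial (ex a β) (1 : k) := by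
      rw [C_mul_monomial, mul_one]
    rw [this]
    exact Ideal.mul_mem_left _ _ (h β hβ)

theorem mem_exps_sliceX_iff (I : Ideal (MvPolynomial (Fin 3) k)) (hI : IsMonomial I) (a : ℕ)
    (β : Fin 2 →₀ ℕ) : β ∈ exps (sliceX I a) ↔ ex a β ∈ exps I := by
  classical
  show monomial β (1 : k) ∈ sliceX I a ↔ _
  rw [mem_sliceX_iff I hI, support_monomial, if_neg one_ne_zero]
  simp

theorem sliceX_main (I : Ideal (MvPolynomial (Fin 3) k)) (hI : IsStronglyStable I) (i : ℕ) :
    IsStronglyStable (sliceX I i) ∧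
      (sliceX I i).colon {(MvPolynomial.X 0 : MvPolynomial (Fin 2) k)} ≤ sliceX I (i + 1) := by
  classical
  refine ⟨⟨?_, ?_⟩, ?_⟩
  · intro p hp β hβ
    rw [mem_sliceX_iff I hI.1] at hp
    exact (mem_exps_sliceX_iff I hI.1 i β).2 (hp β hβ)
  · intro β hβ s t hst hpos
    rw [mem_exps_sliceX_iff I hI.1] at hβ ⊢
    have hs : s = 0 := by
      fin_cases s
      · rfl
      · fin_cases t <;> simp at hst
    have ht : t = 1 := by
      fin_cases t
      · subst hs; simp at hst
      · rfl
    subst hs ht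
    have := hI.2 _ hβ 1 2 (by decide) (by simpa [ex, e3_apply] using hpos)
    convert this using 1
    ext u
    fin_cases u <;> simp [ex, e3_apply]
  · intro f hf
    rw [Submodule.mem_colon_singleton, smul_eq_mul, mem_sliceX_iff I hI.1] at hf
    rw [mem_sliceX_iff I hI.1]
    intro β hβ
    have h1 : β + Finsupp.single 0 1 ∈ (f * X 0).support := by
      rw [support_mul_X]
      exact Finset.mem_map.2 ⟨β, hβ, rfl⟩
    have h2 := hf _ h1
    have := hI.2 _ h2 0 1 (by decide) (by simp [ex, e3_apply])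
    convert this using 1
    ext u
    fin_cases u <;> simp [ex, e3_apply]

end Groth.Agent.Lib.Helper5.SStab
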